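import Cfsg.Agent.Lib.ChevBN.BruhatForm
import Cfsg.Prelude.Def_ChevAutomorphisms
import Cfsg.Prelude.Def_ChevG2
import Cfsg.Prelude.Def_ChevF4
import Cfsg.Prelude.Def_ChevE8

/-!
Fixed points of entrywise field automorphisms on a Chevalley group: via the Bruhat normal form, a
fixed element has all its factors fixed, hence it lies in the group over the fixed field, as soon
as the Cartan matrix has an integral inverse (so that the torus parameters are recovered from the
diagonal entries).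
-/

set_option autoImplicit false
set_option linter.unusedSectionVars false

namespace Cfsg.Agent.Lib.ChevFix

open Cfsg.Lie Cfsg.Agent.Lib.ChevBN.Elem Cfsg.Agent.Lib.ChevBN.Entries Cfsg.Agent.Lib.ChevBN.Table
open Cfsg.Agent.Lib.ChevBN.Collect Cfsg.Agent.Lib.ChevBN.Rel Cfsg.Agent.Lib.ChevBN.Torus
open Cfsg.Agent.Lib.ChevBN.Monomial Cfsg.Agent.Lib.ChevBN.Core Cfsg.Agent.Lib.ChevBN.Pair
open Cfsg.Agent.Lib.ChevBN.Stmts Cfsg.Agent.Lib.ChevBN.BruhatForm
open Cfsg.Agent.Lib.ChevOrder.Chev Cfsg.Agent.Lib.BNPair.Basic Cfsg.Agent.Lib.BNPair.Parabolic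
open scoped MatrixGroups

variable {D : ChevalleyDatum}

section Map
variable {K L : Type*} [Field K] [Field L] (i : K →+* L)

/-- Entrywise application of a ring homomorphism. -/
noncomputable abbrev mp : GL D.Idx K →* GL D.Idx L := Matrix.GeneralLinearGroup.map i

theorem coe_mp (g : GL D.Idx K) :
    ((mp i g : GL D.Idx L) : Matrix D.Idx D.Idx L) = (g : Matrix D.Idx D.Idx K).map i := rfl

theorem xMat_map (r : Fin D.nroots) (t : K) : (D.xMat K r t).map i = D.xMat L r (i t) := by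
  ext row col
  rcases col with c | s
  · rcases row with c' | u
    · simp only [Matrix.map_apply, ChevalleyDatum.xMat, Matrix.of_apply]
      split_ifs <;> simp
    · simp only [Matrix.map_apply, ChevalleyDatum.xMat, Matrix.of_apply]
      split_ifs <;> simp
  · simp only [Matrix.map_apply, ChevalleyDatum.xMat, Matrix.of_apply]
    split_ifs
    · rcases row with c' | u
      · simp
      · simp only
        split_ifs <;> simp
    · rcases row with c' | u
      · simp
      · simp only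
        split_ifs <;> simp
    · rcases row with c' | u
      · simp
      · simp only [map_add, map_list_sum, List.map_map]
        congr 1
        · split_ifs <;> simp
        · congr 1
          apply List.map_congr_left
          intro km _
          simp

theorem x_map (r : ℕ) (t : K) : (D.x K r t).map i = D.x L r (i t) := by
  unfold ChevalleyDatum.x
  split_ifs with h
  · exact xMat_map i _ _
  · simp

theorem wordMat_map (w : List (ℕ × K)) :
    (D.wordMat K w).map i = D.wordMat L (w.map fun p => (p.1, i p.2)) := by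
  induction w with
  | nil => simp [ChevalleyDatum.wordMat]
  | cons p w ih =>
    simp only [List.map_cons, ChevalleyDatum.wordMat, List.prod_cons] at ih ⊢
    rw [Matrix.map_mul, x_map, ih]

variable (hK : AddRel D K) (hL : AddRel D L)

theorem mp_X (r : ℕ) (t : K) : mp i (X hK r t) = X hL r (i t) :=
  Units.ext (by rw [coe_mp, coe_X, coe_X, x_map])

theorem mp_nG (r : ℕ) (t : K) : mp i (nG hK r t) = nG hL r (i t) := by
  simp only [nG, map_mul, mp_X i hK hL, map_neg, map_inv₀]

theorem mp_hG (r : ℕ) (t : K) : mp i (hG hK r t) = hG hL r (i t) := by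
  simp only [hG, map_mul, mp_nG i hK hL, map_neg, map_one]

include hK hL in
theorem mp_U {u : GL D.Idx K} (hu : u ∈ D.posUnipotent K) : mp i u ∈ D.posUnipotent L := by
  rw [posUnipotent_eq hK] at hu
  rw [posUnipotent_eq hL]
  have : gen hK {r | D.IsPosRoot r} ≤ (gen hL {r | D.IsPosRoot r}).comap (mp i) :=
    gen_le _ (fun r hr t => by
      rw [Subgroup.mem_comap, mp_X i hK hL]
      exact X_mem_gen _ hr _)
  exact this hu

include hK hL in
theorem mp_H {u : GL D.Idx K} (hu : u ∈ D.diagonalSubgroup K) : mp i u ∈ D.diagonalSubgroup L := by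
  have : D.diagonalSubgroup K ≤ (D.diagonalSubgroup L).comap (mp i) := by
    rw [ChevalleyDatum.diagonalSubgroup, Subgroup.closure_le]
    rintro g ⟨r, t, hr, ht, hg⟩
    rw [eq_hG hK] at hg
    subst hg
    show mp i (hG hK r t) ∈ D.diagonalSubgroup L
    rw [mp_hG i hK hL]
    exact Subgroup.subset_closure ⟨r, i t, hr, (map_ne_zero i).mpr ht, coe_hG _ _ _⟩
  exact this hu

include hK hL in
theorem mp_B {u : GL D.Idx K} (hu : u ∈ D.borelSubgroup K) : mp i u ∈ D.borelSubgroup L := by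
  have : D.borelSubgroup K ≤ (D.borelSubgroup L).comap (mp i) := by
    rw [ChevalleyDatum.borelSubgroup]
    refine sup_le ?_ ?_
    · intro x hx
      rw [Subgroup.mem_comap]
      exact Subgroup.mem_sup_left (mp_U i hK hL hx)
    · intro x hx
      rw [Subgroup.mem_comap]
      exact Subgroup.mem_sup_right (mp_H i hK hL hx)
  exact this hu

theorem mp_group {u : GL D.Idx K} (hu : u ∈ D.group K) : mp i u ∈ D.group L := by
  have : D.group K ≤ (D.group L).comap (mp i) := by
    rw [ChevalleyDatum.group, Subgroup.closure_le]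
    rintro g ⟨r, t, hg⟩
    show mp i g ∈ D.group L
    refine Subgroup.subset_closure ⟨r, i t, ?_⟩
    rw [coe_mp, hg, xMat_map]
  exact this hu

theorem mp_injective : Function.Injective (mp (D := D) i) := by
  intro a b h
  apply Units.ext
  ext p q
  have h2 := congrArg (fun g : GL D.Idx L => (g : Matrix D.Idx D.Idx L) p q) h
  simp only [coe_mp, Matrix.map_apply] at h2
  exact i.injective h2

end Map

section Un
variable {F : Type*} [Field F] (σ : F →+* F)

theorem mp_Un {n u : GL D.Idx F} (hu : u ∈ Un D F n) : mp σ u ∈ Un D F n := by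
  have : Un D F n ≤ (Un D F n).comap (mp σ) := by
    rw [Un, Subgroup.closure_le]
    rintro x ⟨r, t, hr, hc, hx⟩
    show mp σ x ∈ Un D F n
    refine Subgroup.subset_closure ⟨r, σ t, hr, hc, ?_⟩
    rw [coe_mp, hx, x_map]
  exact this hu

end Un

/-- The Cartan matrix has an integral inverse. -/
def Unimod (D : ChevalleyDatum) : Prop :=
  ∃ M : ℕ → ℕ → ℤ, ∀ a < D.rank, ∀ j < D.rank,
    (∑ k ∈ Finset.range D.rank, M a k * D.cartan j (D.simple k)) = if a = j then 1 else 0

theorem zpow_sum_aux {F : Type*} [Field F] {a : F} (ha : a ≠ 0) (s : Finset ℕ) (f : ℕ → ℤ) :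
    a ^ (∑ k ∈ s, f k) = ∏ k ∈ s, a ^ (f k) := by
  classical
  induction s using Finset.induction_on with
  | empty => simp
  | insert x s hx ih => rw [Finset.sum_insert hx, Finset.prod_insert hx, zpow_add₀ ha, ih]

theorem chi_eq_prod {F : Type*} [Field F] (c : ℕ → F) (s : ℕ) :
    chi D c s = ∏ j ∈ Finset.range D.rank, c j ^ D.cartan j s := by
  rw [chi, Finset.prod_eq_multiset_prod]
  rfl

/-- Recovering the torus parameters from the character. -/
theorem param_eq {F : Type*} [Field F] {M : ℕ → ℕ → ℤ}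
    (hM : ∀ a < D.rank, ∀ j < D.rank,
      (∑ k ∈ Finset.range D.rank, M a k * D.cartan j (D.simple k)) = if a = j then 1 else 0)
    {c : ℕ → F} (hc : ∀ j < D.rank, c j ≠ 0) {a : ℕ} (ha : a < D.rank) :
    c a = ∏ k ∈ Finset.range D.rank, chi D c (D.simple k) ^ M a k := by
  simp only [chi_eq_prod]
  have h1 : ∀ k ∈ Finset.range D.rank,
      (∏ j ∈ Finset.range D.rank, c j ^ D.cartan j (D.simple k)) ^ M a k =
        ∏ j ∈ Finset.range D.rank, c j ^ (M a k * D.cartan j (D.simple k)) := by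
    intro k _
    rw [← Finset.prod_zpow]
    apply Finset.prod_congr rfl
    intro j _
    rw [← zpow_mul, mul_comm]
  rw [Finset.prod_congr rfl h1, Finset.prod_comm]
  have h2 : ∀ j ∈ Finset.range D.rank,
      (∏ k ∈ Finset.range D.rank, c j ^ (M a k * D.cartan j (D.simple k))) =
        if j = a then c a else 1 := by
    intro j hj
    have hj' := Finset.mem_range.mp hj
    rw [← zpow_sum_aux (hc j hj'), hM a ha j hj']
    by_cases h : j = a
    · subst h
      simp
    · have h' : a ≠ j := fun e => h e.symm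
      simp [h, h']
  rw [Finset.prod_congr rfl h2, Finset.prod_ite_eq' ]
  simp [ha]

/-- The image of the group over `K`. -/
noncomputable def G0 {F K : Type*} [Field F] [Field K] (i : K →+* F) : Subgroup (GL D.Idx F) :=
  (D.group K).map (mp i)

section Form

variable {F : Type*} [Field F] {η : ℕ → ℕ → ℤ} (hR : Sys D F η) (hT : Tbl D)
variable (σ : F →+* F)

theorem A_fixed (q : ℕ) : mp σ (A hR q) = A hR q := by
  rw [A, mp_nG σ hR.toAddRel hR.toAddRel, map_one]

theorem NJ_fixed {m : GL D.Idx F} (hm : m ∈ NJ hR Set.univ) : mp σ m = m := by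
  have : NJ hR Set.univ ≤ MonoidHom.eqLocus (mp σ) (MonoidHom.id _) := by
    rw [NJ, Subgroup.closure_le]
    rintro g ⟨q, -, -, rfl⟩
    exact A_fixed hR σ q
  exact this hm

include hT in
/-- Existence of the normal form with `m` in the group generated by the `n_{p_i}`. -/
theorem exists_form {g : GL D.Idx F} (hg : g ∈ D.group F) :
    ∃ b ∈ D.borelSubgroup F, ∃ m ∈ NJ hR Set.univ, ∃ u ∈ Un D F m, g = b * m * u := by
  obtain ⟨n, hn, hm⟩ := bruhat_exists (P := pair hR hT) (⟨g, hg⟩ : ↥(D.group F))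
  obtain ⟨b₁, hb₁, b₂, hb₂, e⟩ := mem_C.mp hm
  have hnN := (mem_PN hR hT).1 hn
  have hnN' := hnN
  rw [monomial_eq hR hT] at hnN'
  have hnorm : ∀ x ∈ NJ hR Set.univ, ∀ y ∈ D.diagonalSubgroup F,
      x * y * x⁻¹ ∈ D.diagonalSubgroup F := by
    intro x hx y hy
    exact H_norm_N hR hT (by rw [monomial_eq hR hT]; exact Subgroup.mem_sup_right hx) hy
  obtain ⟨k, hk, m, hm', hkm⟩ := (mem_sup_iff_of_norm hnorm).mp hnN'
  have hmN : m ∈ D.monomialSubgroup F := by
    rw [monomial_eq hR hT]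
    exact Subgroup.mem_sup_right hm'
  obtain ⟨u₂, hu₂, k₂, hk₂, e₂⟩ := (mem_B_iff hR hT).mp ((mem_PB hR hT).1 hb₂)
  have hb₁' := (mem_PB hR hT).1 hb₁
  have hge : g = (b₁ : GL D.Idx F) * (k * m) * (u₂ * k₂) := by
    have := congrArg Subtype.val e
    simp only [Subgroup.coe_mul] at this
    rw [this, e₂, hkm]
  have hk3 : k₂⁻¹ * u₂ * k₂ ∈ D.posUnipotent F := by
    have := H_norm_U hR hT (Subgroup.inv_mem _ hk₂) hu₂
    simpa using this
  obtain ⟨a, w, hw, ha, e3⟩ := factor_U hR hT hmN hk3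
  refine ⟨(b₁ : GL D.Idx F) * k * (m * k₂ * m⁻¹) * (m * a * m⁻¹), ?_, m, hm', w, hw, ?_⟩
  · exact Subgroup.mul_mem _ (Subgroup.mul_mem _ (Subgroup.mul_mem _ hb₁' (H_le_B hR hT hk))
      (H_le_B hR hT (H_norm_N hR hT hmN hk₂))) (U_le_B hR hT ha)
  · rw [hge]
    have e4 : u₂ * k₂ = k₂ * (k₂⁻¹ * u₂ * k₂) := by group
    rw [e4, e3]
    group

end Form

section Main

variable {F : Type*} [Field F] {η : ℕ → ℕ → ℤ} (hR : Sys D F η) (hT : Tbl D)
variable {K : Type*} [Field K] (hK : AddRel D K) (i : K →+* F)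
include hR hT hK

theorem word_mem (l : List (ℕ × F))
    (hl : ∀ p ∈ l, p.1 < D.nroots ∧ ∃ s, i s = p.2) : W hR.toAddRel l ∈ G0 (D := D) i := by
  induction l with
  | nil => simp
  | cons p l ih =>
    rw [W_cons]
    refine Subgroup.mul_mem _ ?_ (ih fun q hq => hl q (by simp [hq]))
    obtain ⟨h1, s, hs⟩ := hl p (by simp)
    rw [← hs, ← mp_X i hK hR.toAddRel]
    refine ⟨X hK p.1 s, ?_, rfl⟩
    exact Subgroup.subset_closure ⟨⟨p.1, h1⟩, s, by
      rw [coe_X, ChevalleyDatum.x, dif_pos h1]⟩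

variable (σ : F →+* F) (hrange : ∀ t, σ t = t → ∃ s, i s = t)

include hrange in
theorem U_fix {u : GL D.Idx F} (hu : u ∈ D.posUnipotent F) (hf : mp σ u = u) :
    u ∈ G0 (D := D) i := by
  obtain ⟨t, ⟨ht0, ht1⟩, huniq⟩ := (unique_product hR hT).1 u hu
  have h2 : (u : Matrix D.Idx D.Idx F) =
      D.wordMat F (D.posRoots.map fun r => (r, σ (t r))) := by
    have h3 := coe_mp σ u
    rw [hf, ht1, wordMat_map] at h3
    rw [ht1]
    rw [h3]
    simp [List.map_map, Function.comp_def]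
  have h4 : (fun r => σ (t r)) = t := huniq _ ⟨fun r hr => by show σ (t r) = 0; rw [ht0 r hr, map_zero], h2⟩
  have h5 : u = W hR.toAddRel (D.posRoots.map fun r => (r, t r)) := by
    apply Units.ext
    rw [coe_W, ht1]
  rw [h5]
  apply word_mem hR hT hK i
  intro p hp
  obtain ⟨r, hr, rfl⟩ := List.mem_map.mp hp
  refine ⟨(mem_posRoots.mp hr).1, hrange _ ?_⟩
  exact congrFun h4 r

include hrange in
theorem hG_mem {r : ℕ} (hr : r < D.nroots) {c : F} (hc : σ c = c) :
    hG hR.toAddRel r c ∈ G0 (D := D) i := by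
  obtain ⟨s, rfl⟩ := hrange c hc
  rw [← W_hWord hR hT]
  apply word_mem hR hT hK i
  intro p hp
  simp only [ChevalleyDatum.hWord, ChevalleyDatum.nWord, List.cons_append, List.nil_append,
    List.mem_cons, List.not_mem_nil, or_false] at hp
  have hn := hT.neg_lt hr
  rcases hp with rfl | rfl | rfl | rfl | rfl | rfl
  · exact ⟨hr, s, rfl⟩
  · exact ⟨hn, -s⁻¹, by simp⟩
  · exact ⟨hr, s, rfl⟩
  · exact ⟨hr, -1, by simp⟩
  · exact ⟨hn, -(-1)⁻¹, by simp⟩
  · exact ⟨hr, -1, by simp⟩

include hrange in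
theorem H_fix (hU : Unimod D) {k : GL D.Idx F} (hk : k ∈ D.diagonalSubgroup F)
    (hf : mp σ k = k) : k ∈ G0 (D := D) i := by
  obtain ⟨M, hM⟩ := hU
  rw [diagonal_eq hR hT] at hk
  obtain ⟨c, hc, rfl⟩ := hk
  have h1 : ∀ s < D.nroots, σ (chi D c s) = chi D c s := by
    intro s hs
    have h2 := congrArg (fun g : GL D.Idx F => (g : Matrix D.Idx D.Idx F)
      (Sum.inr ⟨s, hs⟩) (Sum.inr ⟨s, hs⟩)) hf
    simp only [coe_mp, Matrix.map_apply, coe_hP hR hc, dgMat, Matrix.diagonal_apply_eq,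
      Sum.elim_inr] at h2
    exact h2
  have h3 : ∀ a < D.rank, σ (c a) = c a := by
    intro a ha
    rw [param_eq hM hc ha, map_prod]
    apply Finset.prod_congr rfl
    intro k hk
    rw [map_zpow₀, h1 _ (hT.simple_lt (Finset.mem_range.mp hk))]
  rw [hP]
  apply Subgroup.list_prod_mem
  intro x hx
  obtain ⟨j, hj, rfl⟩ := List.mem_map.mp hx
  have hj' := List.mem_range.mp hj
  exact hG_mem hR hT hK i σ hrange (hT.simple_lt hj') (h3 j hj')

include hrange in
theorem NJ_le {m : GL D.Idx F} (hm : m ∈ NJ hR Set.univ) : m ∈ G0 (D := D) i := by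
  have : NJ hR Set.univ ≤ G0 (D := D) i := by
    rw [NJ, Subgroup.closure_le]
    rintro g ⟨q, -, hl, rfl⟩
    show A hR q ∈ G0 (D := D) i
    rw [A, nG]
    have e : ∀ t : F, σ t = t → X hR.toAddRel (D.simple q) t ∈ G0 (D := D) i := by
      intro t ht
      have := word_mem hR hT hK i [(D.simple q, t)] (by
        intro p hp
        simp only [List.mem_singleton] at hp
        subst hp
        exact ⟨hT.simple_lt hl, hrange t ht⟩)
      simpa using this
    have e2 : X hR.toAddRel (D.neg (D.simple q)) (-(1 : F)⁻¹) ∈ G0 (D := D) i := by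
      have := word_mem hR hT hK i [(D.neg (D.simple q), -(1 : F)⁻¹)] (by
        intro p hp
        simp only [List.mem_singleton] at hp
        subst hp
        exact ⟨hT.neg_lt (hT.simple_lt hl), hrange _ (by simp)⟩)
      simpa using this
    exact Subgroup.mul_mem _ (Subgroup.mul_mem _ (e 1 (map_one σ)) e2) (e 1 (map_one σ))
  exact this hm

include hrange in
/-- A fixed element of the group lies in the image of the group over `K`. -/
theorem fixed_mem (hU : Unimod D) {g : GL D.Idx F} (hg : g ∈ D.group F) (hf : mp σ g = g) :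
    g ∈ G0 (D := D) i := by
  obtain ⟨b, hb, m, hm, u, hu, rfl⟩ := exists_form hR hT hg
  have hmN : m ∈ D.monomialSubgroup F := by
    rw [monomial_eq hR hT]
    exact Subgroup.mem_sup_right hm
  have e : b * m * u = mp σ b * m * mp σ u := by
    have := hf
    rw [map_mul, map_mul, NJ_fixed hR σ hm] at this
    exact this.symm
  have h1 := (normal_form_unique hR hT hb (mp_B σ hR.toAddRel hR.toAddRel hb) hmN hmN hu
    (mp_Un σ hu) e).2 rfl
  obtain ⟨u₁, hu₁, k₁, hk₁, rfl⟩ := (mem_B_iff hR hT).mp hb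
  have h2 : mp σ u₁ * mp σ k₁ = u₁ * k₁ := by
    rw [← map_mul]
    exact h1.1.symm
  have hu₁' := mp_U σ hR.toAddRel hR.toAddRel hu₁
  have hk₁' := mp_H σ hR.toAddRel hR.toAddRel hk₁
  have h3 : (mp σ u₁)⁻¹ * u₁ ∈ D.posUnipotent F ⊓ D.diagonalSubgroup F := by
    refine ⟨Subgroup.mul_mem _ (Subgroup.inv_mem _ hu₁') hu₁, ?_⟩
    have e5 : (mp σ u₁)⁻¹ * u₁ = mp σ k₁ * k₁⁻¹ := by
      rw [eq_mul_inv_iff_mul_eq, mul_assoc, ← h2, inv_mul_cancel_left]
    rw [e5]
    exact Subgroup.mul_mem _ hk₁' (Subgroup.inv_mem _ hk₁)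
  rw [U_inf_H hR hT, Subgroup.mem_bot] at h3
  have h4 : mp σ u₁ = u₁ := inv_mul_eq_one.mp h3
  have h5 : mp σ k₁ = k₁ := by
    rw [h4] at h2
    exact mul_left_cancel h2
  have hun : u ∈ D.posUnipotent F := Un_le_U hR hT m hu
  exact Subgroup.mul_mem _ (Subgroup.mul_mem _ (Subgroup.mul_mem _
    (U_fix hR hT hK i σ hrange hu₁ h4) (H_fix hR hT hK i σ hrange hU hk₁ h5))
    (NJ_le hR hT hK i σ hrange hm)) (U_fix hR hT hK i σ hrange hun h1.2.symm)

end Main

section Final

universe u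

variable {F : Type u} [Field F]

theorem mp_one (g : GL D.Idx F) : mp ((1 : F ≃+* F) : F →+* F) g = g := by
  apply Units.ext
  ext p q
  rfl

theorem mp_mul (σ τ : F ≃+* F) (g : GL D.Idx F) :
    mp ((σ * τ : F ≃+* F) : F →+* F) g = mp (σ : F →+* F) (mp (τ : F →+* F) g) := by
  apply Units.ext
  ext p q
  rfl

theorem phi_eq (φ : MulAut ↥(D.group F)) (σ : F ≃+* F)
    (h : ∀ (g : ↥(D.group F)) (r : ℕ) (t : F), r < D.nroots →
      ((g : GL D.Idx F) : Matrix D.Idx D.Idx F) = D.x F r t →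
      ((φ g : GL D.Idx F) : Matrix D.Idx D.Idx F) = D.x F r (σ t)) (g : ↥(D.group F)) :
    ((φ g : ↥(D.group F)) : GL D.Idx F) = mp (σ : F →+* F) (g : GL D.Idx F) := by
  obtain ⟨x, hx⟩ := g
  have hx' := hx
  rw [ChevalleyDatum.group] at hx'
  refine Subgroup.closure_induction
    (p := fun x hx => ((φ ⟨x, hx⟩ : ↥(D.group F)) : GL D.Idx F) = mp (σ : F →+* F) x)
    ?_ ?_ ?_ ?_ hx'
  · rintro y ⟨r, t, hy⟩
    apply Units.ext
    have e1 : ((y : GL D.Idx F) : Matrix D.Idx D.Idx F) = D.x F r.val t := by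
      rw [hy, ChevalleyDatum.x, dif_pos r.isLt]
    refine (h ⟨y, Subgroup.subset_closure ⟨r, t, hy⟩⟩ r.val t r.isLt e1).trans ?_
    rw [coe_mp, e1, x_map]
    rfl
  · have : (⟨1, Subgroup.one_mem _⟩ : ↥(D.group F)) = 1 := rfl
    simp [this]
  · intro a b ha hb iha ihb
    have : (⟨a * b, Subgroup.mul_mem _ ha hb⟩ : ↥(D.group F)) = ⟨a, ha⟩ * ⟨b, hb⟩ := rfl
    rw [this, map_mul, map_mul, Subgroup.coe_mul, iha, ihb]
  · intro a ha iha
    have : (⟨a⁻¹, Subgroup.inv_mem _ ha⟩ : ↥(D.group F)) = ⟨a, ha⟩⁻¹ := rfl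
    rw [this, map_inv, map_inv, Subgroup.coe_inv, iha]

theorem pow_eq (φ : MulAut ↥(D.group F)) (σ : F ≃+* F)
    (h : ∀ g : ↥(D.group F), ((φ g : ↥(D.group F)) : GL D.Idx F) = mp (σ : F →+* F) (g : GL D.Idx F))
    (n : ℕ) (g : ↥(D.group F)) :
    (((φ ^ n) g : ↥(D.group F)) : GL D.Idx F) =
      mp ((σ ^ n : F ≃+* F) : F →+* F) (g : GL D.Idx F) := by
  induction n generalizing g with
  | zero =>
    rw [pow_zero, pow_zero, mp_one]
    rfl
  | succ n ih =>
    rw [pow_succ', pow_succ', mp_mul, ← ih, MulAut.mul_apply, h]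

theorem X_inj {η : ℕ → ℕ → ℤ} (hR : Sys D F η) (hT : Tbl D) (h0 : 0 < D.rank) {a b : F}
    (h : X hR.toAddRel (D.simple 0) a = X hR.toAddRel (D.simple 0) b) : a = b := by
  have h1 := ordered_unique (hA := hR.toAddRel) hT [D.simple 0] (by simp)
    (by
      intro r hr
      simp only [List.mem_singleton] at hr
      subst hr
      exact hT.simple_pos 0 h0) (fun _ => a) (fun _ => b)
    (by simpa using h) (D.simple 0) (by simp)
  exact h1

theorem orderOf_phi {η : ℕ → ℕ → ℤ} (hR : Sys D F η) (hT : Tbl D) (h0 : 0 < D.rank)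
    (φ : MulAut ↥(D.group F)) (σ : F ≃+* F)
    (h : ∀ g : ↥(D.group F), ((φ g : ↥(D.group F)) : GL D.Idx F) = mp (σ : F →+* F) (g : GL D.Idx F)) :
    orderOf φ = orderOf σ := by
  rw [orderOf_eq_orderOf_iff]
  intro n
  constructor
  · intro hn
    ext t
    have hmem : X hR.toAddRel (D.simple 0) t ∈ D.group F := by
      rw [group_eq hR.toAddRel]
      have h5 : D.simple 0 ∈ {r | r < D.nroots} := hT.simple_lt h0
      exact X_mem_gen _ h5 t
    have h1 := pow_eq φ σ h n ⟨_, hmem⟩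
    rw [hn] at h1
    change X hR.toAddRel (D.simple 0) t = _ at h1
    rw [mp_X _ hR.toAddRel hR.toAddRel] at h1
    exact (X_inj hR hT h0 h1).symm
  · intro hn
    ext1 g
    apply Subtype.ext
    rw [pow_eq φ σ h n g, hn, mp_one]
    rfl

/-- The general statement. -/
theorem main {η : ℕ → ℕ → ℤ} [Fintype F] (hU : Unimod D) (h0 : 0 < D.rank) (hR : Sys D F η) (hT : Tbl D)
    (hK : ∀ (K : Type) [Field K], AddRel D K)
    (φ : MulAut ↥(D.group F)) (hφ : D.IsFieldAut φ) (r : ℕ) (ho : orderOf φ = r) :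
    ∃ (F₀ : Type) (_ : Field F₀) (_ : Fintype F₀), Fintype.card F = Fintype.card F₀ ^ r ∧
      Nonempty (↥((MulEquiv.toMonoidHom φ).eqLocus (MonoidHom.id ↥(D.group F))) ≃* ↥(D.group F₀)) := by
  classical
  obtain ⟨σ, hσ⟩ := hφ
  have hφσ := phi_eq φ σ hσ
  have hord : orderOf σ = r := by rw [← orderOf_phi hR hT h0 φ σ hφσ, ho]
  have hfin : Finite (F ≃+* F) :=
    Finite.of_injective (fun σ : F ≃+* F => (σ : F → F)) DFunLike.coe_injective
  let E : Subgroup (F ≃+* F) := Subgroup.zpowers σ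
  let _ : Fintype E := Fintype.ofFinite _
  let F₁ : Subfield F := FixedPoints.subfield E F
  have hF₁ : ∀ t : F, t ∈ F₁ ↔ σ t = t := by
    intro t
    constructor
    · intro ht
      exact ht ⟨σ, Subgroup.mem_zpowers σ⟩
    · intro ht e
      have hle : E ≤ MulAction.stabilizer (F ≃+* F) t := by
        rw [Subgroup.zpowers_le]
        exact ht
      exact hle e.2
  have hcardE : Fintype.card E = r := by
    rw [← hord, ← Nat.card_eq_fintype_card]
    exact Nat.card_zpowers σ
  have hfr : Module.finrank F₁ F = r := by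
    rw [← hcardE]
    exact FixedPoints.finrank_eq_card E F
  let _ : Fintype F₁ := Fintype.ofFinite _
  have hcard : Fintype.card F = Fintype.card F₁ ^ r := by
    rw [← hfr]
    exact Module.card_eq_pow_finrank
  let F₀ : Type := Shrink.{0} F₁
  let _ : Fintype F₀ := Fintype.ofEquiv F₁ (equivShrink.{0} F₁)
  let e : F₀ ≃+* F₁ := (equivShrink.{0} F₁).symm.ringEquiv
  let i : F₀ →+* F := F₁.subtype.comp e.toRingHom
  have hi : ∀ s, (σ : F →+* F) (i s) = i s := by
    intro s
    exact (hF₁ (i s)).mp (e s).2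
  have hrange : ∀ t, (σ : F →+* F) t = t → ∃ s, i s = t := by
    intro t ht
    refine ⟨e.symm ⟨t, (hF₁ t).mpr ht⟩, ?_⟩
    show ((e (e.symm ⟨t, (hF₁ t).mpr ht⟩) : F₁) : F) = t
    rw [RingEquiv.apply_symm_apply]
  have hcomp : ∀ x : GL D.Idx F₀, mp (σ : F →+* F) (mp i x) = mp i x := by
    intro x
    apply Units.ext
    ext p q
    exact hi _
  let f₀ : ↥(D.group F₀) →* ↥(D.group F) :=
    ((mp i).comp (D.group F₀).subtype).codRestrict (D.group F)
      (fun x => mp_group i x.2)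
  have hf₀ : ∀ x : ↥(D.group F₀), ((f₀ x : ↥(D.group F)) : GL D.Idx F) = mp i (x : GL D.Idx F₀) :=
    fun _ => rfl
  let f : ↥(D.group F₀) →* ↥((MulEquiv.toMonoidHom φ).eqLocus (MonoidHom.id ↥(D.group F))) :=
    f₀.codRestrict _ (fun x => by
      apply Subtype.ext
      show ((φ (f₀ x) : ↥(D.group F)) : GL D.Idx F) = _
      rw [hφσ, hf₀, hcomp]
      rfl)
  have hinj : Function.Injective f := by
    intro a b hab
    have h1 : (f a : ↥(D.group F)) = (f b : ↥(D.group F)) := congrArg Subtype.val hab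
    have h2 : ((f a : ↥(D.group F)) : GL D.Idx F) = ((f b : ↥(D.group F)) : GL D.Idx F) :=
      congrArg Subtype.val h1
    exact Subtype.ext (mp_injective i h2)
  have hsurj : Function.Surjective f := by
    rintro ⟨⟨g, hg⟩, hfix⟩
    have hfix' : φ ⟨g, hg⟩ = ⟨g, hg⟩ := hfix
    have h1 : mp (σ : F →+* F) g = g := by
      have := hφσ ⟨g, hg⟩
      rw [hfix'] at this
      exact this.symm
    obtain ⟨x, hx, hxg⟩ := fixed_mem hR hT (hK F₀) i (σ : F →+* F) hrange hU hg h1
    refine ⟨⟨x, hx⟩, ?_⟩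
    apply Subtype.ext
    apply Subtype.ext
    exact hxg
  exact ⟨F₀, inferInstance, inferInstance, by
    rw [hcard, Fintype.card_congr (equivShrink.{0} F₁).symm], ⟨(MulEquiv.ofBijective f ⟨hinj, hsurj⟩).symm⟩⟩

end Final

/-- Integral inverses of the Cartan matrices. -/
def tblM (L : List (List ℤ)) (a k : ℕ) : ℤ := (L.getD a []).getD k 0

theorem unimod_G2 : Unimod chevG2 := ⟨tblM [[2, 1], [3, 2]], by decide +kernel⟩
theorem unimod_F4 : Unimod chevF4 :=
  ⟨tblM [[2, 3, 2, 1], [3, 6, 4, 2], [4, 8, 6, 3], [2, 4, 3, 2]], by decide +kernel⟩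
theorem unimod_E8 : Unimod chevE8 :=
  ⟨tblM [[4, 5, 7, 10, 8, 6, 4, 2], [5, 8, 10, 15, 12, 9, 6, 3], [7, 10, 14, 20, 16, 12, 8, 4],
    [10, 15, 20, 30, 24, 18, 12, 6], [8, 12, 16, 24, 20, 15, 10, 5], [6, 9, 12, 18, 15, 12, 8, 4],
    [4, 6, 8, 12, 10, 8, 6, 3], [2, 3, 4, 6, 5, 4, 3, 2]], by decide +kernel⟩

end Cfsg.Agent.Lib.ChevFix
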